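import Mathlib

/-!
# Four involutions with the relations of adjacent transpositions

A group generated by four involutions satisfying the relations of the adjacent transpositions of
five points is the image of the symmetric group of degree five.
-/

set_option autoImplicit false

namespace Cfsg.Agent.Fischer3S5

variable {M : Type*} [Group M]

/-- The relations of four adjacent transpositions. -/
structure AdjRel (a b c d : M) : Prop where
  a2 : a * a = 1
  b2 : b * b = 1
  c2 : c * c = 1
  d2 : d * d = 1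
  ab : a * b * a = b * a * b
  bc : b * c * b = c * b * c
  cd : c * d * c = d * c * d
  ac : a * c = c * a
  ad : a * d = d * a
  bd : b * d = d * b

theorem closure_le_cosets (K : Subgroup M) (S T : Set M) (hS : ∀ s ∈ S, s * s = 1) (h1 : (1 : M) ∈ T)
    (hstep : ∀ t ∈ T, ∀ s ∈ S, ∃ k ∈ K, ∃ u ∈ T, t * s = k * u) :
    ∀ g ∈ Subgroup.closure S, ∃ k ∈ K, ∃ t ∈ T, g = k * t := by
  intro g hg
  induction hg using Subgroup.closure_induction_right with
  | one => exact ⟨1, one_mem K, 1, h1, by rw [one_mul]⟩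
  | mul_right x _ s hs ih =>
    obtain ⟨k, hk, t, ht, rfl⟩ := ih
    obtain ⟨k', hk', u, hu, he⟩ := hstep t ht s hs
    exact ⟨k * k', mul_mem hk hk', u, hu, by rw [mul_assoc, he, mul_assoc]⟩
  | mul_inv_cancel x _ s hs ih =>
    obtain ⟨k, hk, t, ht, rfl⟩ := ih
    obtain ⟨k', hk', u, hu, he⟩ := hstep t ht s hs
    exact ⟨k * k', mul_mem hk hk', u, hu, by
      rw [inv_eq_of_mul_eq_one_right (hS s hs), mul_assoc, he, mul_assoc]⟩

theorem card_le_cosets [Finite M] (K : Subgroup M) (S T : Set M) (hS : ∀ s ∈ S, s * s = 1)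
    (h1 : (1 : M) ∈ T) (hstep : ∀ t ∈ T, ∀ s ∈ S, ∃ k ∈ K, ∃ u ∈ T, t * s = k * u) :
    Nat.card ↥(Subgroup.closure S) ≤ Nat.card ↥K * T.ncard := by
  let f : ↥K × ↥T → M := fun p => (p.1 : M) * p.2
  have hsub : (Subgroup.closure S : Set M) ⊆ Set.range f := by
    intro g hg
    obtain ⟨k, hk, t, ht, rfl⟩ := closure_le_cosets K S T hS h1 hstep g hg
    exact ⟨(⟨k, hk⟩, ⟨t, ht⟩), rfl⟩
  calc Nat.card ↥(Subgroup.closure S) = (Subgroup.closure S : Set M).ncard :=
        (Nat.card_coe_set_eq _)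
    _ ≤ (Set.range f).ncard := Set.ncard_le_ncard hsub
    _ = Nat.card (Set.range f) := (Nat.card_coe_set_eq _).symm
    _ ≤ Nat.card (↥K × ↥T) := Finite.card_range_le f
    _ = Nat.card ↥K * T.ncard := by rw [Nat.card_prod, Nat.card_coe_set_eq T]

theorem card_closure_le [Finite M] {a b c d : M} (h : AdjRel a b c d) :
    Nat.card ↥(Subgroup.closure ({a, b, c, d} : Set M)) ≤ 120 := by
  have hmem : ∀ {S : Set M} {x : M}, x ∈ S → x ∈ Subgroup.closure S :=
    fun hx => Subgroup.subset_closure hx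
  have e1 : Nat.card ↥(Subgroup.closure ({a} : Set M)) ≤ 2 := by
    refine (card_le_cosets ⊥ {a} {1, a} ?_ (by simp) ?_).trans ?_
    · rintro s rfl; exact h.a2
    · intro t ht s hs
      simp only [Set.mem_insert_iff, Set.mem_singleton_iff] at ht hs
      rcases ht with ht | ht <;> rcases hs with hs <;> rw [ht, hs]
      · exact ⟨1, one_mem _, a, by simp, by simp⟩
      · exact ⟨1, one_mem _, 1, by simp, by simp [h.a2]⟩
    · rw [Subgroup.card_bot, one_mul]
      exact (Set.ncard_insert_le _ _).trans (by simp)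
  have e2 : Nat.card ↥(Subgroup.closure ({a, b} : Set M)) ≤ 6 := by
    refine (card_le_cosets (Subgroup.closure {a}) {a, b} {1, b, b * a} ?_ (by simp) ?_).trans ?_
    · rintro s (rfl | rfl)
      exacts [h.a2, h.b2]
    · intro t ht s hs
      simp only [Set.mem_insert_iff, Set.mem_singleton_iff] at ht hs
      rcases ht with ht | ht | ht <;> rcases hs with hs | hs <;> rw [ht, hs]
      · exact ⟨_, hmem rfl, 1, by simp, by simp⟩
      · exact ⟨1, one_mem _, _, Or.inr (Or.inl rfl), by simp⟩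
      · exact ⟨1, one_mem _, _, Or.inr (Or.inr rfl), by simp⟩
      · exact ⟨1, one_mem _, 1, by simp, by simp [h.b2]⟩
      · exact ⟨1, one_mem _, b, by simp, by simp [mul_assoc, h.a2]⟩
      · exact ⟨a, hmem rfl, _, Or.inr (Or.inr rfl), by rw [← mul_assoc a, h.ab]⟩
    · refine (Nat.mul_le_mul e1 ((Set.ncard_insert_le _ _).trans
        (Nat.add_le_add_right ((Set.ncard_insert_le _ _).trans (by rw [Set.ncard_singleton])) 1))).trans ?_
      norm_num
  have e3 : Nat.card ↥(Subgroup.closure ({a, b, c} : Set M)) ≤ 24 := by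
    refine (card_le_cosets (Subgroup.closure {a, b}) {a, b, c} {1, c, c * b, c * b * a} ?_
      (by simp) ?_).trans ?_
    · rintro s (rfl | rfl | rfl)
      exacts [h.a2, h.b2, h.c2]
    · intro t ht s hs
      simp only [Set.mem_insert_iff, Set.mem_singleton_iff] at ht hs
      rcases ht with ht | ht | ht | ht <;> rcases hs with hs | hs | hs <;> rw [ht, hs]
      · exact ⟨a, hmem (Or.inl rfl), 1, by simp, by simp⟩
      · exact ⟨b, hmem (Or.inr rfl), 1, by simp, by simp⟩
      · exact ⟨1, one_mem _, _, Or.inr (Or.inl rfl), by simp⟩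
      · exact ⟨a, hmem (Or.inl rfl), c, by simp, h.ac.symm⟩
      · exact ⟨1, one_mem _, _, Or.inr (Or.inr (Or.inl rfl)), by simp⟩
      · exact ⟨1, one_mem _, 1, by simp, by simp [h.c2]⟩
      · exact ⟨1, one_mem _, _, Or.inr (Or.inr (Or.inr rfl)), by simp⟩
      · exact ⟨1, one_mem _, c, by simp, by simp [mul_assoc, h.b2]⟩
      · exact ⟨b, hmem (Or.inr rfl), _, Or.inr (Or.inr (Or.inl rfl)), by
          rw [← mul_assoc b, h.bc]⟩
      · exact ⟨1, one_mem _, c * b, by simp, by simp [mul_assoc, h.a2]⟩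
      · refine ⟨a, hmem (Or.inl rfl), _, Or.inr (Or.inr (Or.inr rfl)), ?_⟩
        calc c * b * a * b = c * (b * a * b) := by simp only [mul_assoc]
          _ = c * (a * b * a) := by rw [h.ab]
          _ = (c * a) * (b * a) := by simp only [mul_assoc]
          _ = a * (c * b * a) := by rw [← h.ac]; simp only [mul_assoc]
      · refine ⟨b, hmem (Or.inr rfl), _, Or.inr (Or.inr (Or.inr rfl)), ?_⟩
        calc c * b * a * c = c * b * (a * c) := by simp only [mul_assoc]
          _ = c * b * c * a := by rw [h.ac]; simp only [mul_assoc]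
          _ = b * (c * b * a) := by rw [← h.bc]; simp only [mul_assoc]
    · refine (Nat.mul_le_mul e2 ((Set.ncard_insert_le _ _).trans
        (Nat.add_le_add_right ((Set.ncard_insert_le _ _).trans
          (Nat.add_le_add_right ((Set.ncard_insert_le _ _).trans
            (by rw [Set.ncard_singleton])) 1)) 1))).trans ?_
      norm_num
  refine (card_le_cosets (Subgroup.closure {a, b, c}) {a, b, c, d}
    {1, d, d * c, d * c * b, d * c * b * a} ?_ (by simp) ?_).trans ?_
  · rintro s (rfl | rfl | rfl | rfl)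
    exacts [h.a2, h.b2, h.c2, h.d2]
  · intro t ht s hs
    simp only [Set.mem_insert_iff, Set.mem_singleton_iff] at ht hs
    rcases ht with ht | ht | ht | ht | ht <;> rcases hs with hs | hs | hs | hs <;> rw [ht, hs]
    · exact ⟨a, hmem (Or.inl rfl), 1, by simp, by simp⟩
    · exact ⟨b, hmem (Or.inr (Or.inl rfl)), 1, by simp, by simp⟩
    · exact ⟨c, hmem (Or.inr (Or.inr rfl)), 1, by simp, by simp⟩
    · exact ⟨1, one_mem _, _, Or.inr (Or.inl rfl), by simp⟩
    · exact ⟨a, hmem (Or.inl rfl), d, by simp, h.ad.symm⟩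
    · exact ⟨b, hmem (Or.inr (Or.inl rfl)), d, by simp, h.bd.symm⟩
    · exact ⟨1, one_mem _, _, Or.inr (Or.inr (Or.inl rfl)), by simp⟩
    · exact ⟨1, one_mem _, 1, by simp, by simp [h.d2]⟩
    · refine ⟨a, hmem (Or.inl rfl), d * c, by simp, ?_⟩
      rw [mul_assoc d, ← h.ac, ← mul_assoc, ← h.ad, mul_assoc]
    · exact ⟨1, one_mem _, _, Or.inr (Or.inr (Or.inr (Or.inl rfl))), by simp⟩
    · exact ⟨1, one_mem _, d, by simp, by simp [mul_assoc, h.c2]⟩
    · exact ⟨c, hmem (Or.inr (Or.inr rfl)), _, Or.inr (Or.inr (Or.inl rfl)), by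
        rw [← mul_assoc c, h.cd]⟩
    · exact ⟨1, one_mem _, _, Or.inr (Or.inr (Or.inr (Or.inr rfl))), by simp⟩
    · exact ⟨1, one_mem _, d * c, by simp, by simp [mul_assoc, h.b2]⟩
    · refine ⟨b, hmem (Or.inr (Or.inl rfl)), _, Or.inr (Or.inr (Or.inr (Or.inl rfl))), ?_⟩
      calc d * c * b * c = d * (c * b * c) := by simp only [mul_assoc]
        _ = d * (b * c * b) := by rw [h.bc]
        _ = (d * b) * (c * b) := by simp only [mul_assoc]
        _ = b * (d * c * b) := by rw [← h.bd]; simp only [mul_assoc]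
    · refine ⟨c, hmem (Or.inr (Or.inr rfl)), _, Or.inr (Or.inr (Or.inr (Or.inl rfl))), ?_⟩
      calc d * c * b * d = d * c * (b * d) := by simp only [mul_assoc]
        _ = d * c * d * b := by rw [h.bd]; simp only [mul_assoc]
        _ = c * (d * c * b) := by rw [← h.cd]; simp only [mul_assoc]
    · exact ⟨1, one_mem _, d * c * b, by simp, by simp [mul_assoc, h.a2]⟩
    · refine ⟨a, hmem (Or.inl rfl), _, Or.inr (Or.inr (Or.inr (Or.inr rfl))), ?_⟩
      calc d * c * b * a * b = d * c * (b * a * b) := by simp only [mul_assoc]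
        _ = d * c * (a * b * a) := by rw [h.ab]
        _ = d * (c * a) * (b * a) := by simp only [mul_assoc]
        _ = d * (a * c) * (b * a) := by rw [h.ac]
        _ = (d * a) * c * (b * a) := by simp only [mul_assoc]
        _ = a * (d * c * b * a) := by rw [← h.ad]; simp only [mul_assoc]
    · refine ⟨b, hmem (Or.inr (Or.inl rfl)), _, Or.inr (Or.inr (Or.inr (Or.inr rfl))), ?_⟩
      calc d * c * b * a * c = d * c * b * (a * c) := by simp only [mul_assoc]
        _ = d * (c * b * c) * a := by rw [h.ac]; simp only [mul_assoc]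
        _ = d * (b * c * b) * a := by rw [h.bc]
        _ = (d * b) * (c * b * a) := by simp only [mul_assoc]
        _ = b * (d * c * b * a) := by rw [← h.bd]; simp only [mul_assoc]
    · refine ⟨c, hmem (Or.inr (Or.inr rfl)), _, Or.inr (Or.inr (Or.inr (Or.inr rfl))), ?_⟩
      calc d * c * b * a * d = d * c * b * (a * d) := by simp only [mul_assoc]
        _ = d * c * (b * d) * a := by rw [h.ad]; simp only [mul_assoc]
        _ = (d * c * d) * (b * a) := by rw [h.bd]; simp only [mul_assoc]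
        _ = (c * d * c) * (b * a) := by rw [h.cd]
        _ = c * (d * c * b * a) := by simp only [mul_assoc]
  · refine (Nat.mul_le_mul e3 ((Set.ncard_insert_le _ _).trans
      (Nat.add_le_add_right ((Set.ncard_insert_le _ _).trans
        (Nat.add_le_add_right ((Set.ncard_insert_le _ _).trans
          (Nat.add_le_add_right ((Set.ncard_insert_le _ _).trans
            (by rw [Set.ncard_singleton])) 1)) 1)) 1))).trans ?_
    norm_num

theorem adjRel_swaps : AdjRel (Equiv.swap (0 : Fin 5) 1) (Equiv.swap 1 2) (Equiv.swap 2 3)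
    (Equiv.swap 3 4) := by
  constructor <;> decide

theorem closure_swaps : Subgroup.closure ({Equiv.swap (0 : Fin 5) 1, Equiv.swap 1 2, Equiv.swap 2 3,
    Equiv.swap 3 4} : Set (Equiv.Perm (Fin 5))) = ⊤ := by
  have hm := Equiv.Perm.mclosure_swap_castSucc_succ 4
  rw [eq_top_iff]
  intro x _
  have hx : x ∈ Submonoid.closure (Set.range fun i : Fin 4 => Equiv.swap i.castSucc i.succ) := by
    rw [hm]; trivial
  refine (Submonoid.closure_le (S := (Subgroup.closure _).toSubmonoid)).2 ?_ hx
  rintro _ ⟨i, rfl⟩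
  refine Subgroup.subset_closure ?_
  fin_cases i <;> simp

theorem prod_adjRel {N : Type*} [Group N] {a b c d : M} {a' b' c' d' : N} (h : AdjRel a b c d)
    (h' : AdjRel a' b' c' d') : AdjRel (a, a') (b, b') (c, c') (d, d') :=
  ⟨Prod.ext h.a2 h'.a2, Prod.ext h.b2 h'.b2, Prod.ext h.c2 h'.c2, Prod.ext h.d2 h'.d2,
    Prod.ext h.ab h'.ab, Prod.ext h.bc h'.bc, Prod.ext h.cd h'.cd, Prod.ext h.ac h'.ac,
    Prod.ext h.ad h'.ad, Prod.ext h.bd h'.bd⟩

/-- The map from the symmetric group of degree five. -/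
theorem exists_hom [Finite M] {a b c d : M} (h : AdjRel a b c d) :
    ∃ ψ : Equiv.Perm (Fin 5) →* M, ψ (Equiv.swap 0 1) = a ∧ ψ (Equiv.swap 1 2) = b ∧
      ψ (Equiv.swap 2 3) = c ∧ ψ (Equiv.swap 3 4) = d := by
  classical
  set A := ((a, Equiv.swap (0 : Fin 5) 1) : M × Equiv.Perm (Fin 5)) with hA
  set B := ((b, Equiv.swap (1 : Fin 5) 2) : M × Equiv.Perm (Fin 5)) with hB
  set C := ((c, Equiv.swap (2 : Fin 5) 3) : M × Equiv.Perm (Fin 5)) with hC
  set D := ((d, Equiv.swap (3 : Fin 5) 4) : M × Equiv.Perm (Fin 5)) with hD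
  have hcard : Nat.card ↥(Subgroup.closure ({A, B, C, D} : Set (M × Equiv.Perm (Fin 5)))) ≤ 120 :=
    card_closure_le (prod_adjRel h adjRel_swaps)
  set R := Subgroup.closure ({A, B, C, D} : Set (M × Equiv.Perm (Fin 5))) with hR
  let q : ↥R →* Equiv.Perm (Fin 5) := (MonoidHom.snd M _).comp R.subtype
  have hsurj : Function.Surjective q := by
    rw [← MonoidHom.range_eq_top, eq_top_iff, ← closure_swaps, Subgroup.closure_le]
    rintro x (rfl | rfl | rfl | rfl)
    · exact ⟨⟨A, Subgroup.subset_closure (Or.inl rfl)⟩, rfl⟩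
    · exact ⟨⟨B, Subgroup.subset_closure (Or.inr (Or.inl rfl))⟩, rfl⟩
    · exact ⟨⟨C, Subgroup.subset_closure (Or.inr (Or.inr (Or.inl rfl)))⟩, rfl⟩
    · exact ⟨⟨D, Subgroup.subset_closure (Or.inr (Or.inr (Or.inr rfl)))⟩, rfl⟩
  have h120 : Nat.card (Equiv.Perm (Fin 5)) = 120 := by
    simp [Nat.card_eq_fintype_card, Fintype.card_perm, Nat.factorial]
  have hbij : Function.Bijective q := by
    have := Nat.card_le_card_of_surjective q hsurj
    exact (Nat.bijective_iff_surjective_and_card q).2 ⟨hsurj, by omega⟩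
  let e := MulEquiv.ofBijective q hbij
  refine ⟨((MonoidHom.fst M _).comp R.subtype).comp e.symm.toMonoidHom, ?_⟩
  have hev : ∀ (x : M × Equiv.Perm (Fin 5)) (hx : x ∈ R), e.symm x.2 = ⟨x, hx⟩ := fun x hx => by
    rw [MulEquiv.symm_apply_eq]; rfl
  refine ⟨?_, ?_, ?_, ?_⟩
  · exact congrArg (fun r : ↥R => r.1.1) (hev A (Subgroup.subset_closure (Or.inl rfl)))
  · exact congrArg (fun r : ↥R => r.1.1)
      (hev B (Subgroup.subset_closure (Or.inr (Or.inl rfl))))
  · exact congrArg (fun r : ↥R => r.1.1)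
      (hev C (Subgroup.subset_closure (Or.inr (Or.inr (Or.inl rfl)))))
  · exact congrArg (fun r : ↥R => r.1.1)
      (hev D (Subgroup.subset_closure (Or.inr (Or.inr (Or.inr rfl)))))

theorem injective_of_ne (ψ : Equiv.Perm (Fin 5) →* M)
    (hne : ψ (Equiv.swap 0 1) ≠ ψ (Equiv.swap 1 2)) : Function.Injective ψ := by
  rw [← MonoidHom.ker_eq_bot_iff]
  have := alternatingGroup.isSimpleGroup (α := Fin 5) (by simp)
  have hn : (ψ.ker.subgroupOf (alternatingGroup (Fin 5))).Normal := inferInstance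
  rcases hn.eq_bot_or_eq_top with hbot | htop
  · rw [Subgroup.subgroupOf_eq_bot, disjoint_iff] at hbot
    rw [eq_bot_iff]
    intro x hx
    have hcomm : ∀ y : Equiv.Perm (Fin 5), x * y * x⁻¹ * y⁻¹ = 1 := by
      intro y
      have h1 : x * y * x⁻¹ * y⁻¹ ∈ ψ.ker ⊓ alternatingGroup (Fin 5) := by
        refine ⟨?_, ?_⟩
        · rw [mul_assoc x, mul_assoc x]
          exact mul_mem hx ((MonoidHom.normal_ker ψ).conj_mem _ (inv_mem hx) y)
        · show _ ∈ alternatingGroup (Fin 5)
          rw [Equiv.Perm.mem_alternatingGroup]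
          simp only [map_mul, map_inv]
          generalize Equiv.Perm.sign x = u, Equiv.Perm.sign y = v
          rw [mul_right_comm u v u⁻¹, mul_inv_cancel, one_mul, mul_inv_cancel]
      rw [hbot] at h1
      exact h1
    have key : ∀ x : Equiv.Perm (Fin 5), x * Equiv.swap 0 1 = Equiv.swap 0 1 * x →
        x * Equiv.swap 1 2 = Equiv.swap 1 2 * x → x * Equiv.swap 2 3 = Equiv.swap 2 3 * x →
        x * Equiv.swap 3 4 = Equiv.swap 3 4 * x → x = 1 := by decide +kernel
    have hc : ∀ y, x * y = y * x := fun y => by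
      rw [← commutatorElement_eq_one_iff_mul_comm, commutatorElement_def]
      exact hcomm y
    exact key x (hc _) (hc _) (hc _) (hc _)
  · exfalso
    apply hne
    have hm : Equiv.swap (0 : Fin 5) 1 * Equiv.swap 1 2 ∈ alternatingGroup (Fin 5) := by
      rw [Equiv.Perm.mem_alternatingGroup]; decide
    have := (Subgroup.subgroupOf_eq_top.1 htop) hm
    rw [MonoidHom.mem_ker, map_mul] at this
    have h2 : ψ (Equiv.swap 1 2) * ψ (Equiv.swap 1 2) = 1 := by
      rw [← map_mul, Equiv.swap_mul_self, map_one]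
    rw [eq_inv_of_mul_eq_one_left this, inv_eq_of_mul_eq_one_right h2]

end Cfsg.Agent.Fischer3S5
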