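import Cfsg.Agent.Lib.Fischer3.Orbits
import Cfsg.Agent.Lib.Fischer3S5.SymFiveCox

/-!
# Sets of 3-transpositions in which the perp of each member generates a symmetric group of degree 3
-/

set_option autoImplicit false
set_option synthInstance.maxSize 1000

namespace Cfsg.Agent.Fischer3S5

open Cfsg ClassK Fischer3

universe u

variable {G : Type u} [Group G] [Finite G]

/-- The members other than `d` commuting with `d`. -/
def perp (D : Set G) (d : G) : Set G := {y : G | y ∈ D ∧ y ≠ d ∧ Commute d y}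

/-- The local hypothesis. -/
structure Loc (D : Set G) : Prop where
  tt : IsThreeTranspositionSet D
  inv : ∀ g : G, ∀ d ∈ D, g * d * g⁻¹ ∈ D
  sym : ∀ d ∈ D, Nonempty (↥(Subgroup.closure (perp D d)) ≃* Equiv.Perm (Fin 3))
  core : ∀ d ∈ D, Nat.card (Cfsg.pCore 3 ↥(Subgroup.centralizer ({d} : Set G))) = 3

variable {D : Set G}

theorem perp_symm {d y : G} (hd : d ∈ D) (h : y ∈ perp D d) : d ∈ perp D y :=
  ⟨hd, h.2.1.symm, h.2.2.symm⟩

theorem Loc.conj' (h : Loc D) {x y : G} (hx : x ∈ D) (hy : y ∈ D) : x * y * x ∈ D := by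
  have := h.inv x y hy
  rwa [tt_inv h.tt hx] at this

/-- A member of the perp as an element of the symmetric group. -/
theorem Loc.exists_image (h : Loc D) {d : G} (hd : d ∈ D) :
    ∃ φ : ↥(Subgroup.closure (perp D d)) ≃* Equiv.Perm (Fin 3),
      ∀ y, ∀ hy : y ∈ perp D d, φ ⟨y, Subgroup.subset_closure hy⟩ ≠ 1 ∧
        φ ⟨y, Subgroup.subset_closure hy⟩ * φ ⟨y, Subgroup.subset_closure hy⟩ = 1 := by
  obtain ⟨φ⟩ := h.sym d hd
  refine ⟨φ, fun y hy => ⟨fun he => ?_, ?_⟩⟩
  · have h1 := φ.injective (he.trans (map_one φ).symm)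
    have h2 := h.tt.1 y hy.1
    rw [show y = 1 from congrArg Subtype.val h1, orderOf_one] at h2
    omega
  · rw [← map_mul, MulEquiv.map_eq_one_iff]
    exact Subtype.ext (tt_mul_self h.tt hy.1)

theorem Loc.noncomm (h : Loc D) {d p q : G} (hd : d ∈ D) (hp : p ∈ perp D d) (hq : q ∈ perp D d)
    (hne : p ≠ q) : ¬ Commute p q := by
  obtain ⟨φ, hφ⟩ := h.exists_image hd
  intro hc
  have key : ∀ x y : Equiv.Perm (Fin 3), x ≠ 1 → x * x = 1 → y ≠ 1 → y * y = 1 → x * y = y * x →
      x = y := by decide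
  exact hne (congrArg Subtype.val (φ.injective (key _ _ (hφ p hp).1 (hφ p hp).2 (hφ q hq).1
    (hφ q hq).2 (by rw [← map_mul, ← map_mul]; exact congrArg φ (Subtype.ext hc.eq)))))

theorem Loc.cases (h : Loc D) {d p q y : G} (hd : d ∈ D) (hp : p ∈ perp D d) (hq : q ∈ perp D d)
    (hne : p ≠ q) (hy : y ∈ perp D d) : y = p ∨ y = q ∨ y = p * q * p := by
  obtain ⟨φ, hφ⟩ := h.exists_image hd
  have key : ∀ x z w : Equiv.Perm (Fin 3), x ≠ 1 → x * x = 1 → z ≠ 1 → z * z = 1 → w ≠ 1 →
      w * w = 1 → x ≠ z → w = x ∨ w = z ∨ w = x * z * x := by decide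
  rcases key _ _ _ (hφ p hp).1 (hφ p hp).2 (hφ q hq).1 (hφ q hq).2 (hφ y hy).1 (hφ y hy).2
      (fun he => hne (congrArg Subtype.val (φ.injective he))) with h1 | h1 | h1
  · exact Or.inl (congrArg Subtype.val (φ.injective h1))
  · exact Or.inr (Or.inl (congrArg Subtype.val (φ.injective h1)))
  · rw [← map_mul, ← map_mul] at h1
    exact Or.inr (Or.inr (congrArg Subtype.val (φ.injective h1)))

theorem Loc.two (h : Loc D) {d : G} (hd : d ∈ D) : ∃ p ∈ perp D d, ∃ q ∈ perp D d, p ≠ q := by
  by_contra hno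
  push Not at hno
  obtain ⟨φ, -⟩ := h.exists_image hd
  have hc : ∀ x ∈ Subgroup.closure (perp D d), ∀ y ∈ Subgroup.closure (perp D d),
      x * y = y * x := by
    have h1 : Subgroup.closure (perp D d) ≤ Subgroup.centralizer (perp D d) := by
      rw [Subgroup.closure_le]
      intro x hx
      rw [SetLike.mem_coe, Subgroup.mem_centralizer_iff]
      intro y hy
      rw [hno y hy x hx]
    have h2 : Subgroup.closure (perp D d) ≤ Subgroup.centralizer
        (Subgroup.closure (perp D d) : Set G) := by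
      rw [Subgroup.closure_le]
      intro x hx
      rw [SetLike.mem_coe, Subgroup.mem_centralizer_iff]
      intro y hy
      exact (Subgroup.mem_centralizer_iff.1 (h1 hy) x hx).symm
    intro x hx y hy
    exact (Subgroup.mem_centralizer_iff.1 (h2 hx) y hy).symm
  have : ∀ x y : Equiv.Perm (Fin 3), x * y = y * x := by
    intro x y
    have := congrArg φ (Subtype.ext (hc _ (φ.symm x).2 _ (φ.symm y).2) :
      φ.symm x * φ.symm y = φ.symm y * φ.symm x)
    simpa using this
  exact absurd this (by decide)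

theorem Loc.third_mem (h : Loc D) {d p q : G} (hd : d ∈ D) (hp : p ∈ perp D d) (hq : q ∈ perp D d) :
    p * q * p ∈ perp D d := by
  refine ⟨h.conj' hp.1 hq.1, fun he => hq.2.1 ?_, (hp.2.2.mul_right hq.2.2).mul_right hp.2.2⟩
  have hpp := tt_mul_self h.tt hp.1
  calc q = p * (p * q * p) * p := by rw [← mul_assoc, ← mul_assoc, hpp, one_mul, mul_assoc, hpp, mul_one]
    _ = p * d * p := by rw [he]
    _ = d := by rw [← hp.2.2.eq, mul_assoc, hpp, mul_one]

theorem Loc.perp_eq (h : Loc D) {d e p q : G} (hd : d ∈ D) (he : e ∈ D) (hp : p ∈ perp D d)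
    (hq : q ∈ perp D d) (hp' : p ∈ perp D e) (hq' : q ∈ perp D e) (hne : p ≠ q) :
    perp D d = perp D e := by
  ext y
  constructor
  · intro hy
    rcases h.cases hd hp hq hne hy with rfl | rfl | rfl
    exacts [hp', hq', h.third_mem he hp' hq']
  · intro hy
    rcases h.cases he hp' hq' hne hy with rfl | rfl | rfl
    exacts [hp, hq, h.third_mem hd hp hq]

/-- A central 3-element of the centraliser fixed by a member of the perp is trivial. -/
theorem Loc.core_fixed (h : Loc D) {d a w : G} (hd : d ∈ D) (ha : a ∈ perp D d)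
    (hwd : w ∈ Subgroup.centralizer ({d} : Set G))
    (hw : (⟨w, hwd⟩ : ↥(Subgroup.centralizer ({d} : Set G))) ∈ Cfsg.pCore 3 _)
    (hwa : Commute w a) : w = 1 := by
  haveI : Fact (Nat.Prime 3) := ⟨Nat.prime_three⟩
  by_contra hw1
  obtain ⟨p, hp, q, hq, hpq⟩ := h.two hd
  obtain ⟨b, hb, hab⟩ : ∃ b ∈ perp D d, a ≠ b := by
    by_cases hap : a = p
    · exact ⟨q, hq, hap ▸ hpq⟩
    · exact ⟨p, hp, hap⟩
  set C := Subgroup.centralizer ({d} : Set G) with hC
  have hle : prodSub (perp D d) ≤ C := by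
    refine (Subgroup.closure_le _).2 ?_
    rintro _ ⟨x, hx, y, hy, rfl⟩
    exact Subgroup.mem_centralizer_singleton_iff.2 (hx.2.2.symm.mul_left hy.2.2.symm).eq
  haveI : ((prodSub (perp D d)).subgroupOf C).Normal := ⟨fun z hz g => by
    rw [Subgroup.mem_subgroupOf] at hz ⊢
    refine conj_mem_prodSub (S := perp D d) (fun x hx => ?_) hz
    have hg : (g : G) * d * (g : G)⁻¹ = d :=
      conj_eq_of_commute (Subgroup.mem_centralizer_singleton_iff.1 g.2)
    refine ⟨h.inv _ x hx.1, fun e => hx.2.1 ?_, ?_⟩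
    · exact mul_left_cancel (mul_right_cancel (e.trans hg.symm))
    · have := Fischer3.commute_conj (g : G) hx.2.2
      rwa [hg] at this⟩
  have hP : IsPGroup 3 (prodSub (perp D d)) := by
    refine isPGroup_prodSub_three ⟨fun x hx => h.tt.1 x hx.1, fun x hx y hy => h.tt.2 x hx.1 y hy.1⟩
      (fun x hx y hy => ?_) fun x hx y hy hc => not_not.1 fun hne => h.noncomm hd hx hy hne hc
    rw [tt_inv h.tt hx.1]
    exact h.third_mem hd hx hy
  have hab' : (⟨a * b, hle (mul_mem_prodSub ha hb)⟩ : ↥C) ∈ Cfsg.pCore 3 ↥C :=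
    Basics.le_pCore (hP.of_equiv (Subgroup.subgroupOfEquivOfLe hle).symm)
      (Subgroup.mem_subgroupOf.2 (mul_mem_prodSub ha hb))
  have hne : (⟨⟨w, hwd⟩, hw⟩ : ↥(Cfsg.pCore 3 ↥C)) ≠ 1 := fun he =>
    hw1 (congrArg (fun z : ↥(Cfsg.pCore 3 ↥C) => z.1.1) he)
  obtain ⟨k, hk⟩ := mem_zpowers_of_prime_card (h.core d hd) (g' := ⟨_, hab'⟩) hne
  have hk' : w ^ k = a * b := congrArg (fun z : ↥(Cfsg.pCore 3 ↥C) => z.1.1) hk
  have hc : Commute (a * b) a := hk' ▸ hwa.zpow_left k
  exact h.noncomm hd ha hb hab (mul_left_cancel (a := a) (by simpa [mul_assoc] using hc.eq.symm))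

/-- `f` fixing nothing but one inverts. -/
theorem inverts_of_fixed {N : Subgroup G} [hN : N.Normal] {u : G} (huu : u * u = 1)
    (hfix : ∀ n ∈ N, Commute n u → n = 1) : ∀ n ∈ N, u * n * u = n⁻¹ := by
  have hu : u⁻¹ = u := inv_eq_of_mul_eq_one_right huu
  let f : ↥N → ↥N := fun m => ⟨(m : G)⁻¹ * (u * m * u), mul_mem (inv_mem m.2) (by
    have := hN.conj_mem m m.2 u
    rwa [hu] at this)⟩
  have hinj : Function.Injective f := by
    intro m m' he
    have h1 : (m : G)⁻¹ * (u * m * u) = (m' : G)⁻¹ * (u * m' * u) := congrArg Subtype.val he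
    have h2 : u * ((m' : G) * (m : G)⁻¹) * u = (m' : G) * (m : G)⁻¹ := by
      have h2' : (m' : G) * (m : G)⁻¹ * (u * m * u) = u * m' * u := by
        rw [mul_assoc, h1, mul_inv_cancel_left]
      calc u * ((m' : G) * (m : G)⁻¹) * u
          = (u * m' * u) * (u * m * u)⁻¹ := by
            rw [mul_inv_rev, mul_inv_rev, hu]
            simp only [mul_assoc]
            rw [← mul_assoc u u, huu, one_mul]
        _ = (m' : G) * (m : G)⁻¹ := by rw [← h2']; group
    have h3 : Commute ((m' : G) * (m : G)⁻¹) u := by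
      calc (m' : G) * (m : G)⁻¹ * u = u * ((m' : G) * (m : G)⁻¹) * u * u := by rw [h2]
        _ = u * ((m' : G) * (m : G)⁻¹) := by rw [mul_assoc _ u u, huu, mul_one]
    exact Subtype.ext (mul_inv_eq_one.1 (hfix _ (mul_mem m'.2 (inv_mem m.2)) h3)).symm
  intro n hn
  obtain ⟨m, hm⟩ := Finite.surjective_of_injective hinj ⟨n, hn⟩
  have hm' : (m : G)⁻¹ * (u * m * u) = n := congrArg Subtype.val hm
  rw [← hm', mul_inv_rev, inv_inv, mul_inv_rev, mul_inv_rev, hu]
  simp only [mul_assoc, huu, mul_one]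

/-- The members other than `d` commuting with `d` determine `d`. -/
theorem Loc.perp_inj (h : Loc D)
    (hQ : ∀ d ∈ D, ∀ a ∈ perp D d, ∃ x ∈ D, ¬ Commute d x ∧ ¬ Commute a x)
    {d e : G} (hd : d ∈ D) (he : e ∈ D) (heq : perp D d = perp D e) : d = e := by
  haveI : Fact (Nat.Prime 3) := ⟨Nat.prime_three⟩
  by_contra hne
  obtain ⟨a, ha, -⟩ := h.two hd
  obtain ⟨x, hx, hdx, hax⟩ := hQ d hd a ha
  set H := Subgroup.closure D with hH
  haveI : H.Normal := ⟨fun z hz g => by
    have hle : H ≤ H.comap (MulAut.conj g).toMonoidHom :=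
      (Subgroup.closure_le _).2 fun y hy => Subgroup.subset_closure (h.inv g y hy)
    exact hle hz⟩
  let D' : Set ↥H := {y | (y : G) ∈ D}
  have hG : IsThreeTranspositionGroup D' := by
    refine ⟨⟨fun y hy => ?_, fun y hy z hz => ?_⟩, fun g y hy => h.inv (g : G) (y : G) hy, ?_⟩
    · rw [← Subgroup.orderOf_coe]; exact h.tt.1 _ hy
    · exact (h.tt.2 _ hy _ hz).imp (fun e => Subtype.ext e) fun e => Subtype.ext e
    · exact Subgroup.closure_closure_coe_preimage
  set N := (Cfsg.pCore 3 ↥H).map H.subtype with hN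
  haveI hNn : N.Normal := ConjAct.normal_of_characteristic_of_normal
  have hNp : IsPGroup 3 N := (Basics.pCore_isPGroup 3).map _
  have hmemD : ∀ y ∈ D, y ∈ H := fun y hy => Subgroup.subset_closure hy
  have hperp : ∀ y, ∀ hy : y ∈ D, ∀ z, ∀ hz : z ∈ D,
      (perp D y = perp D z ↔ RelW D' ⟨y, hmemD y hy⟩ ⟨z, hmemD z hz⟩) := by
    intro y hy z hz
    have hc : ∀ a b : ↥H, Commute a b ↔ Commute (a : G) b := fun a b =>
      ⟨fun hh => congrArg Subtype.val hh, fun hh => Subtype.ext hh⟩
    constructor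
    · intro hyz t ht
      have := Set.ext_iff.1 hyz (t : G)
      simp only [perp, Set.mem_setOf_eq] at this
      rw [hc, hc, ne_eq, ne_eq, Subtype.ext_iff, Subtype.ext_iff]
      exact ⟨fun hh => (this.1 ⟨ht, hh⟩).2, fun hh => (this.2 ⟨ht, hh⟩).2⟩
    · intro hr
      ext t
      by_cases ht : t ∈ D
      · have := hr ⟨t, hmemD t ht⟩ ht
        rw [hc, hc, ne_eq, ne_eq, Subtype.ext_iff, Subtype.ext_iff] at this
        exact ⟨fun hh => ⟨ht, this.1 hh.2⟩, fun hh => ⟨ht, this.2 hh.2⟩⟩
      · exact ⟨fun hh => absurd hh.1 ht, fun hh => absurd hh.1 ht⟩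
  have hcore : ∀ y, ∀ hy : y ∈ D, ∀ z, ∀ hz : z ∈ D, (perp D y = perp D z ↔ z * y ∈ N) := by
    intro y hy z hz
    rw [hperp y hy z hz, relW_iff hG (v := ⟨y, hmemD y hy⟩) (d := ⟨z, hmemD z hz⟩) hy hz]
    constructor
    · exact fun hm => ⟨_, hm, rfl⟩
    · rintro ⟨w, hw, hwe⟩
      rwa [show (⟨z, hmemD z hz⟩ : ↥H) * ⟨y, hmemD y hy⟩ = w from Subtype.ext hwe.symm]
  have hcentral : ∀ w ∈ N, Commute w d → Commute w a → w = 1 := by
    intro w hw hwd hwa
    have hwC : w ∈ Subgroup.centralizer ({d} : Set G) :=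
      Subgroup.mem_centralizer_singleton_iff.2 hwd.eq
    refine h.core_fixed hd ha hwC ?_ hwa
    exact Basics.le_pCore (hNp.comap_of_injective (Subgroup.centralizer ({d} : Set G)).subtype
      Subtype.val_injective) (show (⟨w, hwC⟩ : ↥(Subgroup.centralizer ({d} : Set G))) ∈
        N.subgroupOf _ from hw)
  set u := d * a with hu
  have hdd := tt_mul_self h.tt hd
  have haa := tt_mul_self h.tt ha.1
  have huu : u * u = 1 := by rw [hu, ← sq]; exact (tt_commute_iff h.tt hd ha.1).1 ha.2.2
  have hud : Commute u d := (Commute.refl d).mul_left ha.2.2.symm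
  have hdu : a = d * u := by rw [hu, ← mul_assoc, hdd, one_mul]
  have hfix : ∀ n ∈ N, Commute n u → n = 1 := by
    intro n hn hnu
    have hvD : n⁻¹ * d * n ∈ D := by simpa using h.inv n⁻¹ d hd
    have hvN : n⁻¹ * d * n * d ∈ N := by
      have := mul_mem (inv_mem hn) (hNn.conj_mem n hn d)
      simpa only [tt_inv h.tt hd, mul_assoc] using this
    have hperpv : perp D d = perp D (n⁻¹ * d * n) := (hcore d hd _ hvD).2 hvN
    have hav : Commute (n⁻¹ * d * n) a := (hperpv ▸ ha : a ∈ perp D (n⁻¹ * d * n)).2.2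
    have hwu : Commute (n⁻¹ * d * n * d) u :=
      (((hnu.inv_left).mul_left hud.symm).mul_left hnu).mul_left hud.symm
    have hwa : Commute (n⁻¹ * d * n * d) a := hav.mul_left ha.2.2
    have hwd : Commute (n⁻¹ * d * n * d) d := by
      have : d = u * a := by rw [hu, mul_assoc, haa, mul_one]
      have h5 := hwu.mul_right hwa
      rwa [← this] at h5
    have h1 := hcentral _ hvN hwd hwa
    have hnd : Commute n d := by
      have h2 : n⁻¹ * d * n = d := by
        rw [eq_inv_of_mul_eq_one_left h1, tt_inv h.tt hd]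
      calc n * d = n * (n⁻¹ * d * n) := by rw [h2]
        _ = d * n := by group
    exact hcentral n hn hnd (hdu ▸ hnd.mul_right hnu)
  have hinv := inverts_of_fixed huu hfix
  set y := x * d with hy
  have hy3 : y ^ 3 = 1 := tt_noncommute_cube h.tt hx hd fun hc => hdx hc.symm
  have hyu3 : (y * u) ^ 3 = 1 := by
    rw [hy, mul_assoc x d u, ← hdu]
    exact tt_noncommute_cube h.tt hx ha.1 fun hc => hax hc.symm
  have hstep : ∀ m ∈ N, (y * u) * m * (y * u)⁻¹ = (y * m * y⁻¹)⁻¹ := by
    intro m hm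
    have hm' := hinv m hm
    rw [mul_inv_rev, inv_eq_of_mul_eq_one_right huu,
      show y * u * m * (u * y⁻¹) = y * (u * m * u) * y⁻¹ by group, hm']
    group
  set n := e * d with hn
  have hnN : n ∈ N := (hcore d hd e he).1 heq
  have hcy : ∀ m ∈ N, y * m * y⁻¹ ∈ N := fun m hm => hNn.conj_mem m hm y
  have h1 := hstep n hnN
  have h2 := hstep _ (inv_mem (hcy n hnN))
  have h3 := hstep _ (inv_mem (hcy _ (inv_mem (hcy n hnN))))
  have h3' : (y * u) ^ 3 * n * ((y * u) ^ 3)⁻¹ =
      (y * (y * (y * n * y⁻¹)⁻¹ * y⁻¹)⁻¹ * y⁻¹)⁻¹ := by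
    calc (y * u) ^ 3 * n * ((y * u) ^ 3)⁻¹
        = (y * u) * ((y * u) * ((y * u) * n * (y * u)⁻¹) * (y * u)⁻¹) * (y * u)⁻¹ := by
          simp only [pow_succ, pow_zero, one_mul, mul_inv_rev, mul_assoc]
      _ = _ := by rw [h1, h2, h3]
  have hr : (y * (y * (y * n * y⁻¹)⁻¹ * y⁻¹)⁻¹ * y⁻¹)⁻¹ = (y ^ 3 * n * (y ^ 3)⁻¹)⁻¹ := by group
  rw [hr, hy3, hyu3, inv_one, one_mul, mul_one] at h3'
  have hn2 : n ^ 2 = 1 := by rw [sq]; nth_rw 1 [h3']; rw [inv_mul_cancel]
  exact hne (by
    have h4 := eq_one_of_isPGroup hNp (n := 2) (by norm_num) hnN hn2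
    rw [hn] at h4
    rw [eq_inv_of_mul_eq_one_left h4, tt_inv h.tt hd])

/-- The fourth member of the symmetric group on a commuting pair and a third member. -/
theorem Loc.hook (h : Loc D) {d a e : G} (hd : d ∈ D) (ha : a ∈ perp D d) (he : e ∈ D)
    (hde : ¬ Commute d e) (hae : ¬ Commute a e) :
    d * a * e * a * d ∈ perp D e ∧ d * a * e * a * d = d * e * a * e * d := by
  have hdd := tt_mul_self h.tt hd
  have haa := tt_mul_self h.tt ha.1
  have hee := tt_mul_self h.tt he
  have hb1 := tt_braid h.tt ha.1 he hae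
  have hb2 := tt_braid h.tt hd he hde
  have heq : d * a * e * a * d = d * e * a * e * d := by
    calc d * a * e * a * d = d * (a * e * a) * d := by simp only [mul_assoc]
      _ = d * (e * a * e) * d := by rw [hb1]
      _ = d * e * a * e * d := by simp only [mul_assoc]
  refine ⟨⟨?_, ?_, ?_⟩, heq⟩
  · have := h.conj' hd (h.conj' ha.1 he)
    simpa only [mul_assoc] using this
  · intro hfe
    have h1 : a * e * a = d * e * d := by
      calc a * e * a = d * (d * a * e * a * d) * d := by
            simp only [← mul_assoc, hdd, one_mul]; rw [mul_assoc _ d d, hdd, mul_one]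
        _ = d * e * d := by rw [hfe]
    rw [hb1, hb2] at h1
    exact ha.2.1 (mul_left_cancel (mul_right_cancel h1))
  · have hed : e * (d * a * e * a * d) * e = d * a * e * a * d := by
      calc e * (d * a * e * a * d) * e = e * d * (a * e * a) * (d * e) := by simp only [mul_assoc]
        _ = (e * d * e) * a * (e * d * e) := by rw [hb1]; simp only [mul_assoc]
        _ = (d * e * d) * a * (d * e * d) := by rw [← hb2]
        _ = d * e * (d * a * d) * e * d := by simp only [mul_assoc]
        _ = d * e * a * e * d := by rw [ha.2.2.eq, mul_assoc a d d, hdd, mul_one]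
        _ = d * a * e * a * d := heq.symm
    calc e * (d * a * e * a * d) = e * (d * a * e * a * d) * e * e := by
          rw [mul_assoc _ e e, hee, mul_one]
      _ = d * a * e * a * d * e := by rw [hed]

theorem Loc.hook_inj (h : Loc D) {d a b e : G} (hd : d ∈ D) (ha : a ∈ perp D d) (hb : b ∈ perp D d)
    (he : e ∈ D) (hae : ¬ Commute a e) (hbe : ¬ Commute b e)
    (heq : d * a * e * a * d = d * b * e * b * d) : a = b := by
  have h1 : d * (a * e * a) * d = d * (b * e * b) * d := by simpa only [mul_assoc] using heq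
  have h2 := mul_left_cancel (mul_right_cancel h1)
  rw [tt_braid h.tt ha.1 he hae, tt_braid h.tt hb.1 he hbe] at h2
  exact mul_left_cancel (mul_right_cancel h2)

/-- Two noncommuting members have a common neighbour. -/
theorem Loc.common (h : Loc D)
    (hQ : ∀ d ∈ D, ∀ a ∈ perp D d, ∃ x ∈ D, ¬ Commute d x ∧ ¬ Commute a x)
    {d e : G} (hd : d ∈ D) (he : e ∈ D) (hde : ¬ Commute d e) :
    ∃ p ∈ perp D d, e ∈ perp D p := by
  by_contra hno
  push Not at hno
  have hnc : ∀ p ∈ perp D d, ¬ Commute p e := fun p hp hc =>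
    hno p hp ⟨he, fun hep => hde (hep ▸ hp.2.2), hc⟩
  obtain ⟨a, ha, b, hb, hab⟩ := h.two hd
  have hc : a * b * a ∈ perp D d := h.third_mem hd ha hb
  have hbab : a * b * a = b * a * b := tt_braid h.tt ha.1 hb.1 (h.noncomm hd ha hb hab)
  set c := a * b * a with hcdef
  have hca : c ≠ a := fun h' => hab (by
    rw [hcdef] at h'
    have h'' : a * b = 1 := mul_right_cancel (h'.trans (one_mul a).symm)
    exact (eq_inv_of_mul_eq_one_left h'').trans (tt_inv h.tt hb.1))
  have hcb : c ≠ b := fun h' => by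
    rw [hbab] at h'
    have h'' : b * a = 1 := mul_right_cancel (h'.trans (one_mul b).symm)
    exact hab ((eq_inv_of_mul_eq_one_left h'').trans (tt_inv h.tt ha.1)).symm
  have hdd := tt_mul_self h.tt hd
  have haa := tt_mul_self h.tt ha.1
  have hbb := tt_mul_self h.tt hb.1
  have hea := (h.hook hd ha he hde (hnc a ha)).1
  have heb := (h.hook hd hb he hde (hnc b hb)).1
  have hec := (h.hook hd hc he hde (hnc c hc)).1
  set e' := b * a * e * a * b with he'
  have he'D : e' ∈ D := by
    have := h.conj' hb.1 (h.conj' ha.1 he)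
    simpa only [he', mul_assoc] using this
  have hinvba : (b * a)⁻¹ = a * b := by rw [mul_inv_rev, tt_inv h.tt hb.1, tt_inv h.tt ha.1]
  have hbe'' : Commute e' (d * b * e * b * d) := by
    have h1 : b * a * (d * a * e * a * d) * (b * a)⁻¹ = d * b * e * b * d := by
      rw [hinvba]
      calc b * a * (d * a * e * a * d) * (a * b) = b * (a * d) * a * e * a * (d * a) * b := by
            simp only [mul_assoc]
        _ = b * (d * a) * a * e * a * (a * d) * b := by rw [ha.2.2.eq]
        _ = (b * d) * e * (d * b) := by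
            simp only [mul_assoc, ← mul_assoc a a, haa, one_mul]
        _ = d * b * e * b * d := by rw [← hb.2.2.eq, hb.2.2.eq]; simp only [mul_assoc]
    have h2 := Fischer3.commute_conj (b * a) hea.2.2
    rw [h1, hinvba] at h2
    simpa only [he', mul_assoc] using h2
  have hce'' : Commute e' (d * c * e * c * d) := by
    have h1 : b * a * (d * b * e * b * d) * (b * a)⁻¹ = d * c * e * c * d := by
      rw [hinvba]
      calc b * a * (d * b * e * b * d) * (a * b) = b * (a * d) * b * e * b * (d * a) * b := by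
            simp only [mul_assoc]
        _ = b * (d * a) * b * e * b * (a * d) * b := by rw [ha.2.2.eq]
        _ = (b * d) * a * b * e * b * a * (d * b) := by simp only [mul_assoc]
        _ = (d * b) * a * b * e * b * a * (b * d) := by rw [hb.2.2.eq]
        _ = d * (b * a * b) * e * (b * a * b) * d := by simp only [mul_assoc]
        _ = d * c * e * c * d := by rw [← hbab]
    have h2 := Fischer3.commute_conj (b * a) heb.2.2
    rw [h1, hinvba] at h2
    simpa only [he', mul_assoc] using h2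
  have hne' : e' ≠ e := fun h' => by
    have h1 : a * e * a = b * e * b := by
      calc a * e * a = b * e' * b := by
            rw [he']; simp only [← mul_assoc, hbb, one_mul]; rw [mul_assoc _ b b, hbb, mul_one]
        _ = b * e * b := by rw [h']
    rw [tt_braid h.tt ha.1 he (hnc a ha), tt_braid h.tt hb.1 he (hnc b hb)] at h1
    exact hab (mul_left_cancel (mul_right_cancel h1))
  have hne_b : d * b * e * b * d ≠ e' := fun h' => by
    have h1 : d * e * d = a * e * a := by
      calc d * e * d = d * (b * b) * e * (b * b) * d := by rw [hbb, mul_one, mul_one]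
        _ = (d * b) * b * e * b * (b * d) := by simp only [mul_assoc]
        _ = (b * d) * b * e * b * (b * d) := by rw [hb.2.2.eq]
        _ = (b * d) * b * e * b * (d * b) := by rw [hb.2.2.eq]
        _ = b * (d * b * e * b * d) * b := by simp only [mul_assoc]
        _ = b * e' * b := by rw [h']
        _ = a * e * a := by
            rw [he']; simp only [← mul_assoc, hbb, one_mul]; rw [mul_assoc _ b b, hbb, mul_one]
    rw [tt_braid h.tt hd he hde, tt_braid h.tt ha.1 he (hnc a ha)] at h1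
    exact ha.2.1 (mul_left_cancel (mul_right_cancel h1)).symm
  have hne_c : d * c * e * c * d ≠ e' := fun h' => by
    apply heb.2.1
    have h1 : b * a * (d * b * e * b * d) * (b * a)⁻¹ = b * a * e * (b * a)⁻¹ := by
      rw [hinvba]
      calc b * a * (d * b * e * b * d) * (a * b) = b * (a * d) * b * e * b * (d * a) * b := by
            simp only [mul_assoc]
        _ = b * (d * a) * b * e * b * (a * d) * b := by rw [ha.2.2.eq]
        _ = (b * d) * a * b * e * b * a * (d * b) := by simp only [mul_assoc]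
        _ = (d * b) * a * b * e * b * a * (b * d) := by rw [hb.2.2.eq]
        _ = d * (b * a * b) * e * (b * a * b) * d := by simp only [mul_assoc]
        _ = d * c * e * c * d := by rw [← hbab]
        _ = b * a * e * (a * b) := by rw [h', he']; simp only [mul_assoc]
    exact mul_left_cancel (mul_right_cancel h1)
  have heq := h.perp_eq he he'D heb hec ⟨heb.1, hne_b, hbe''⟩ ⟨hec.1, hne_c, hce''⟩
    fun h' => hcb (h.hook_inj hd hb hc he (hnc b hb) (hnc c hc) h').symm
  exact hne' (h.perp_inj hQ he he'D heq).symm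

end Cfsg.Agent.Fischer3S5
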